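import Cfsg.Agent.Lib.Classical.TwoByTwo
import Mathlib

/-!
# Commuting is transitive in `PSL(2, 2^f)`
-/

set_option autoImplicit false
set_option linter.style.haveILetI false

namespace Cfsg.Agent.CASimple

theorem psl_ct {F : Type*} [Field F] [CharP F 2]
    (u v w : Matrix.ProjectiveSpecialLinearGroup (Fin 2) F) (hu : u ≠ 1)
    (huv : u * v = v * u) (huw : u * w = w * u) : v * w = w * v := by
  classical
  haveI : Fact (Nat.Prime 2) := ⟨Nat.prime_two⟩
  have hscal : ∀ a : Matrix.SpecialLinearGroup (Fin 2) F, TwoByTwo.IsScalar a.1 → a = 1 := by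
    intro a ha
    have hd : a.1 0 0 * a.1 1 1 - a.1 0 1 * a.1 1 0 = 1 := by rw [← Matrix.det_fin_two]; exact a.2
    rw [ha.1, ha.2.1, ← ha.2.2] at hd
    have h1 : (a.1 0 0 - 1) ^ 2 = 0 := by
      rw [sub_pow_char, one_pow, sub_eq_zero, sq]
      simpa using hd
    have h2 : a.1 0 0 = 1 := sub_eq_zero.1 (pow_eq_zero_iff two_ne_zero |>.1 h1)
    apply Subtype.ext
    rw [TwoByTwo.isScalar_iff.1 ha, h2, one_smul]
    rfl
  have hinj : Function.Injective (QuotientGroup.mk'
      (Subgroup.center (Matrix.SpecialLinearGroup (Fin 2) F))) := by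
    rw [← MonoidHom.ker_eq_bot_iff, QuotientGroup.ker_mk', eq_bot_iff]
    intro z hz
    obtain ⟨r, -, hr⟩ := Matrix.SpecialLinearGroup.mem_center_iff.1 hz
    rw [Subgroup.mem_bot]
    apply hscal
    rw [← hr]
    simp [TwoByTwo.IsScalar]
  obtain ⟨a, rfl⟩ := QuotientGroup.mk'_surjective _ u
  obtain ⟨b, rfl⟩ := QuotientGroup.mk'_surjective _ v
  obtain ⟨c, rfl⟩ := QuotientGroup.mk'_surjective _ w
  rw [← map_mul, ← map_mul] at huv huw ⊢
  have hns : ¬ TwoByTwo.IsScalar a.1 := fun h => hu (by rw [hscal a h, map_one])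
  obtain ⟨r, s, hb⟩ := TwoByTwo.commute_eq hns (congrArg Subtype.val (hinj huv))
  obtain ⟨r', s', hc⟩ := TwoByTwo.commute_eq hns (congrArg Subtype.val (hinj huw))
  congr 1
  apply Subtype.ext
  show b.1 * c.1 = c.1 * b.1
  rw [hb, hc, add_mul, mul_add, mul_add, add_mul, mul_add, mul_add]
  simp only [smul_mul_assoc, mul_smul_comm, one_mul, mul_one, smul_smul, mul_comm r, mul_comm s]
  abel

theorem charTwo {F : Type*} [Field F] [Fintype F] {f : ℕ} (h : Fintype.card F = 2 ^ f) :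
    CharP F 2 := by
  haveI : Fact (Nat.Prime 2) := ⟨Nat.prime_two⟩
  exact charP_of_card_eq_prime_pow h

end Cfsg.Agent.CASimple
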