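import Cfsg.Agent.S0182
import Cfsg.Agent.Lib.ZassSuz.Main
import Mathlib.GroupTheory.Transfer

/-!
# Simple groups in which commuting is transitive
-/

set_option autoImplicit false
set_option linter.style.haveILetI false
set_option linter.unusedSectionVars false

namespace Cfsg.Agent.CASimple

open MulAction Subgroup

universe u v

variable {G : Type u} [Group G]

/-- Commuting is transitive on the non-identity elements. -/
def CT (G : Type u) [Group G] : Prop :=
  ∀ x y z : G, x ≠ 1 → x * y = y * x → x * z = z * x → y * z = z * y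

/-- An involution. -/
def Invn (s : G) : Prop := s ≠ 1 ∧ s * s = 1

theorem Invn.inv_eq {s : G} (h : Invn s) : s⁻¹ = s := inv_eq_of_mul_eq_one_right h.2

theorem Invn.conj {s : G} (h : Invn s) (g : G) : Invn (g * s * g⁻¹) :=
  ⟨fun e => h.1 (conj_eq_one_iff.1 e), by
    rw [show g * s * g⁻¹ * (g * s * g⁻¹) = g * (s * s) * g⁻¹ by group, h.2]; group⟩

/-- The centraliser of an element. -/
abbrev C (x : G) : Subgroup G := centralizer ({x} : Set G)

/-- The normaliser of the centraliser of an element. -/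
abbrev N (x : G) : Subgroup G := normalizer (C x : Set G)

theorem mem_C {x g : G} : g ∈ C x ↔ g * x = x * g := mem_centralizer_singleton_iff

theorem self_mem_C (x : G) : x ∈ C x := mem_C.2 rfl

theorem conj_mem_C {x a : G} (g : G) : g * a * g⁻¹ ∈ C (g * x * g⁻¹) ↔ a ∈ C x := by
  rw [mem_C, mem_C]
  constructor
  · intro h
    have := congrArg (fun e => g⁻¹ * e * g) h
    simpa [mul_assoc] using this
  · intro h
    rw [show g * a * g⁻¹ * (g * x * g⁻¹) = g * (a * x) * g⁻¹ by group, h]; group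

theorem comm_of_mem (hc : CT G) {s a b : G} (hs : s ≠ 1) (ha : a ∈ C s) (hb : b ∈ C s) :
    a * b = b * a :=
  hc s a b hs (mem_C.1 ha).symm (mem_C.1 hb).symm

theorem C_eq (hc : CT G) {s x : G} (hs : s ≠ 1) (hx1 : x ≠ 1) (hx : x ∈ C s) : C x = C s := by
  ext g
  exact ⟨fun hg => mem_C.2 (hc x g s hx1 (mem_C.1 hg).symm (mem_C.1 hx)),
    fun hg => mem_C.2 (comm_of_mem hc hs hg hx)⟩

theorem mem_N_iff (hc : CT G) {s g : G} (hs : s ≠ 1) : g ∈ N s ↔ g * s * g⁻¹ ∈ C s := by
  constructor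
  · intro hg
    exact (mem_normalizer_iff.1 hg s).1 (self_mem_C s)
  · intro hg
    have he : C (g * s * g⁻¹) = C s := C_eq hc hs (fun e => hs (conj_eq_one_iff.1 e)) hg
    refine mem_normalizer_iff.2 fun a => ?_
    show a ∈ C s ↔ g * a * g⁻¹ ∈ C s
    rw [← conj_mem_C (x := s) g, he]

theorem conj_mem_of_mem_N {s g a : G} (hg : g ∈ N s) (ha : a ∈ C s) : g * a * g⁻¹ ∈ C s :=
  (mem_normalizer_iff.1 hg a).1 ha

variable [Finite G]

theorem even_card [IsSimpleGroup G] (hn : ¬ IsMulCommutative G) (hc : CT G) :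
    ∃ t : G, Invn t := by
  haveI : Fintype G := Fintype.ofFinite G
  haveI : Fact (Nat.Prime 2) := ⟨Nat.prime_two⟩
  have h2 : 2 ∣ Nat.card G := by
    by_contra h
    have hsol := S0182.result (Nat.odd_iff.2 (Nat.two_dvd_ne_zero.1 h))
      fun x hx a ha b hb => comm_of_mem hc hx ha hb
    exact hn ⟨⟨IsSimpleGroup.comm_iff_isSolvable.2 hsol⟩⟩
  obtain ⟨t, ht⟩ := exists_prime_orderOf_dvd_card' (G := G) 2 h2
  refine ⟨t, fun e => ?_, ?_⟩
  · rw [e, orderOf_one] at ht; omega
  · rw [← pow_two, ← ht, pow_orderOf_eq_one]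

theorem C_ne_top [IsSimpleGroup G] (hn : ¬ IsMulCommutative G) (hc : CT G) {s : G} (hs : s ≠ 1) :
    C s ≠ ⊤ := fun h => hn ⟨⟨fun a b => comm_of_mem hc hs (h ▸ mem_top a) (h ▸ mem_top b)⟩⟩

theorem N_ne_top [IsSimpleGroup G] (hn : ¬ IsMulCommutative G) (hc : CT G) {s : G} (hs : s ≠ 1) :
    N s ≠ ⊤ := fun h => by
  rcases IsSimpleGroup.eq_bot_or_eq_top_of_normal (C s) (normalizer_eq_top_iff.1 h) with e | e
  · exact hs (mem_bot.1 (e ▸ self_mem_C s))
  · exact C_ne_top hn hc hs e

theorem sylow_le (hc : CT G) {t : G} (ht : Invn t) : ∃ S : Sylow 2 G, (S : Subgroup G) ≤ C t := by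
  haveI : Fact (Nat.Prime 2) := ⟨Nat.prime_two⟩
  have h : IsPGroup 2 (zpowers t) := by
    refine IsPGroup.of_card (n := 1) ?_
    rw [Nat.card_zpowers, pow_one]
    exact orderOf_eq_prime (by rw [pow_two]; exact ht.2) ht.1
  obtain ⟨S, hS⟩ := h.exists_le_sylow
  have htS : t ∈ (S : Subgroup G) := hS (mem_zpowers t)
  haveI : Nontrivial (S : Subgroup G) :=
    ⟨⟨⟨t, htS⟩, 1, fun e => ht.1 (congrArg Subtype.val e)⟩⟩
  haveI := S.2.center_nontrivial
  obtain ⟨⟨z, hz⟩, hz1⟩ := exists_ne (1 : Subgroup.center (S : Subgroup G))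
  have hz1' : (z : G) ≠ 1 := fun e => hz1 (Subtype.ext (Subtype.ext e))
  have hzS : ∀ g ∈ (S : Subgroup G), g ∈ C (z : G) := fun g hg =>
    mem_C.2 (congrArg Subtype.val (Subgroup.mem_center_iff.1 hz ⟨g, hg⟩))
  refine ⟨S, fun g hg => ?_⟩
  rw [← C_eq hc ht.1 hz1' (mem_C.2 (mem_C.1 (hzS t htS)).symm)]
  exact hzS g hg

theorem odd_relIndex (hc : CT G) {t : G} (ht : Invn t) : ¬ 2 ∣ (C t).relIndex (N t) := by
  haveI : Fact (Nat.Prime 2) := ⟨Nat.prime_two⟩
  obtain ⟨S, hS⟩ := sylow_le hc ht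
  intro h
  have h1 : (C t).relIndex (N t) ∣ (S : Subgroup G).index :=
    (Dvd.intro _ (relIndex_mul_index le_normalizer)).trans (index_dvd_of_le hS)
  exact S.not_dvd_index (h.trans h1)

theorem mem_C_of_sq (hc : CT G) {t w : G} (ht : Invn t) (hw : w ∈ N t) (hw2 : w * w = 1) :
    w ∈ C t := by
  haveI : ((C t).subgroupOf (N t)).Normal := normal_in_normalizer
  have h := Subgroup.pow_index_mem ((C t).subgroupOf (N t)) ⟨w, hw⟩
  obtain ⟨j, hj⟩ := Nat.odd_iff.2 (Nat.two_dvd_ne_zero.1 (odd_relIndex hc ht))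
  rw [show ((C t).subgroupOf (N t)).index = 2 * j + 1 from hj, mem_subgroupOf] at h
  push_cast at h
  rwa [pow_succ, pow_mul, pow_two, hw2, one_pow, one_mul] at h

omit [Finite G] in
theorem conj_pow_of_inv {u v : G} (hu : Invn u) (hv : Invn v) (j : ℕ) :
    u * (u * v) ^ j * u = ((u * v) ^ j)⁻¹ := by
  induction j with
  | zero => simp [hu.2]
  | succ j ih =>
    have hr : ((u * v) ^ (j + 1))⁻¹ = ((u * v) ^ j)⁻¹ * (v * u) := by
      rw [pow_succ', mul_inv_rev, mul_inv_rev, hu.inv_eq, hv.inv_eq]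
    rw [hr, ← ih, pow_succ]
    generalize (u * v) ^ j = e
    calc u * (e * (u * v)) * u = u * e * (u * v) * u := by rw [← mul_assoc u e]
      _ = u * e * u * (v * u) := by group

theorem conj_or_common {u v : G} (hu : Invn u) (hv : Invn v) :
    IsConj u v ∨ ∃ i, Invn i ∧ i ∈ C u ∧ i ∈ C v := by
  rcases Nat.even_or_odd' (orderOf (u * v)) with ⟨j, hj | hj⟩
  · right
    set i := (u * v) ^ j with hi
    have hii : i * i = 1 := by rw [← pow_add, ← two_mul, ← hj, pow_orderOf_eq_one]
    have hi1 : i ≠ 1 := fun e => by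
      have hd := orderOf_dvd_of_pow_eq_one e
      have hpos := orderOf_pos (u * v)
      have := Nat.le_of_dvd (by omega) hd
      omega
    have hiu : i ∈ C u := by
      rw [mem_C]
      have h := conj_pow_of_inv hu hv j
      rw [← hi, inv_eq_of_mul_eq_one_right hii] at h
      calc i * u = u * (u * i * u) := by
            rw [show u * (u * i * u) = (u * u) * i * u by group, hu.2, one_mul]
        _ = u * i := by rw [h]
    refine ⟨i, ⟨hi1, hii⟩, hiu, mem_C.2 ?_⟩
    have h1 : i * (u * v) = (u * v) * i := by rw [hi, ← pow_succ, ← pow_succ']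
    calc i * v = i * u * (u * v) := by
          rw [show i * u * (u * v) = i * (u * u) * v by group, hu.2, mul_one]
      _ = u * i * (u * v) := by rw [mem_C.1 hiu]
      _ = u * ((u * v) * i) := by rw [mul_assoc, h1]
      _ = v * i := by rw [show u * (u * v * i) = (u * u) * v * i by group, hu.2, one_mul]
  · left
    set d := (u * v) ^ j with hd
    refine isConj_iff.2 ⟨d, ?_⟩
    have h := conj_pow_of_inv hu hv j
    rw [← hd] at h
    have h2 : d * d * (u * v) = 1 := by
      rw [← pow_add, ← pow_succ, ← two_mul, ← hj, pow_orderOf_eq_one]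
    calc d * u * d⁻¹ = d * u * (u * d * u) := by rw [h]
      _ = d * d * u := by rw [show d * u * (u * d * u) = d * (u * u) * d * u by group, hu.2, mul_one]
      _ = (d * d * (u * v)) * v := by
          rw [show d * d * (u * v) * v = d * d * u * (v * v) by group, hv.2, mul_one]
      _ = v := by rw [h2, one_mul]

theorem isConj_invn [IsSimpleGroup G] (hn : ¬ IsMulCommutative G) (hc : CT G) {u v : G}
    (hu : Invn u) (hv : Invn v) : IsConj u v := by
  have key : ∀ a b : G, Invn a → Invn b → b ∉ C a → IsConj a b := fun a b ha hb hab => by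
    refine (conj_or_common ha hb).resolve_right ?_
    rintro ⟨i, hi, hia, hib⟩
    refine hab ?_
    rw [← C_eq hc ha.1 hi.1 hia]
    exact mem_C.2 (mem_C.1 hib).symm
  by_cases huv : v ∈ C u
  swap
  · exact key u v hu hv huv
  obtain ⟨g, hg⟩ : ∃ g : G, g * u * g⁻¹ ∉ C u := by
    by_contra hcon
    push Not at hcon
    exact N_ne_top hn hc hu.1 ((eq_top_iff' _).2 fun g => (mem_N_iff hc hu.1).2 (hcon g))
  refine (key u _ hu (hu.conj g) hg).trans (key v _ hv (hu.conj g) ?_).symm
  rwa [C_eq hc hu.1 hv.1 huv]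

/-- The quotient by a centraliser is the set of conjugates. -/
theorem card_orbit_conj (H : Subgroup G) (t : G) (S : Set G)
    (hmem : ∀ g ∈ H, g * t * g⁻¹ ∈ S) (hsurj : ∀ w ∈ S, ∃ g ∈ H, g * t * g⁻¹ = w) :
    Nat.card S = (C t).relIndex H := by
  refine (Nat.card_congr (Equiv.ofBijective (fun q : H ⧸ (C t).subgroupOf H =>
    Quotient.liftOn' q (fun g : H => (⟨(g : G) * t * (g : G)⁻¹, hmem g g.2⟩ : S)) ?_) ⟨?_, ?_⟩)).symm
  · intro a b hab
    rw [QuotientGroup.leftRel_apply, mem_subgroupOf, mem_C] at hab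
    apply Subtype.ext
    push_cast at hab
    show (a : G) * t * (a : G)⁻¹ = b * t * (b : G)⁻¹
    calc (a : G) * t * (a : G)⁻¹ = a * (t * ((a : G)⁻¹ * b)) * (b : G)⁻¹ := by group
      _ = a * ((a : G)⁻¹ * b * t) * (b : G)⁻¹ := by rw [hab]
      _ = b * t * (b : G)⁻¹ := by group
  · intro q q'
    induction q using Quotient.inductionOn'
    induction q' using Quotient.inductionOn'
    rename_i a b
    intro h
    have h' : (a : G) * t * (a : G)⁻¹ = b * t * (b : G)⁻¹ := congrArg Subtype.val h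
    apply Quotient.sound'
    rw [QuotientGroup.leftRel_apply, mem_subgroupOf, mem_C]
    push_cast
    calc (a : G)⁻¹ * b * t = (a : G)⁻¹ * (b * t * (b : G)⁻¹) * b := by group
      _ = t * ((a : G)⁻¹ * b) := by rw [← h']; group
  · rintro ⟨w, hw⟩
    obtain ⟨g, hg, rfl⟩ := hsurj w hw
    exact ⟨Quotient.mk'' ⟨g, hg⟩, rfl⟩

theorem card_J [IsSimpleGroup G] (hn : ¬ IsMulCommutative G) (hc : CT G) {t : G} (ht : Invn t) :
    Nat.card {w : G // Invn w ∧ w ∈ C t} = (C t).relIndex (N t) := by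
  refine card_orbit_conj (N t) t {w | Invn w ∧ w ∈ C t}
    (fun g hg => ⟨ht.conj g, conj_mem_of_mem_N hg (self_mem_C t)⟩) fun w hw => ?_
  obtain ⟨g, hg⟩ := isConj_iff.1 (isConj_invn hn hc ht hw.1)
  exact ⟨g, (mem_N_iff hc ht.1).2 (hg ▸ hw.2), hg⟩

theorem card_invn [IsSimpleGroup G] (hn : ¬ IsMulCommutative G) (hc : CT G) {t : G} (ht : Invn t) :
    Nat.card {w : G // Invn w} = (C t).index := by
  rw [← relIndex_top_right]
  refine card_orbit_conj ⊤ t {w | Invn w} (fun g _ => ht.conj g) fun w hw => ?_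
  obtain ⟨g, hg⟩ := isConj_iff.1 (isConj_invn hn hc ht hw)
  exact ⟨g, mem_top g, hg⟩

theorem two_le_relIndex [IsSimpleGroup G] (hn : ¬ IsMulCommutative G) (hc : CT G) {t : G}
    (ht : Invn t) : 2 ≤ (C t).relIndex (N t) := by
  haveI : Fact (Nat.Prime 2) := ⟨Nat.prime_two⟩
  by_contra hlt
  have hne : (C t).relIndex (N t) ≠ 0 := by
    rw [← card_J hn hc ht]
    haveI : Nonempty {w : G // Invn w ∧ w ∈ C t} := ⟨⟨t, ht, self_mem_C t⟩⟩
    exact Nat.card_pos.ne'
  have hle : N t ≤ C t := relIndex_eq_one.1 (by omega)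
  obtain ⟨S, hS⟩ := sylow_le hc ht
  have hSt : t ∈ (S : Subgroup G) := by
    by_contra hmem
    have hz : IsPGroup 2 (zpowers t) := by
      refine IsPGroup.of_card (n := 1) ?_
      rw [Nat.card_zpowers, pow_one]
      exact orderOf_eq_prime (by rw [pow_two]; exact ht.2) ht.1
    have hn' : zpowers t ≤ normalizer ((S : Subgroup G) : Set G) := zpowers_le.2 (mem_normalizer_iff.2
      fun a => by
        constructor
        · intro ha
          rwa [← mem_C.1 (hS ha), mul_inv_cancel_right]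
        · intro ha
          have hat : a = t⁻¹ * (t * a * t⁻¹) * t := by group
          have hcomm := mem_C.1 (hS ha)
          rwa [hat, show t⁻¹ * (t * a * t⁻¹) * t = t⁻¹ * ((t * a * t⁻¹) * t) by group, hcomm,
            inv_mul_cancel_left])
    have := S.3 (IsPGroup.to_sup_of_normal_right' hz S.2 hn') le_sup_right
    exact hmem (this ▸ mem_sup_left (mem_zpowers t))
  have hP : normalizer ((S : Subgroup G) : Set G) ≤ centralizer ((S : Subgroup G) : Set G) := by
    intro g hg
    have hgN : g ∈ N t := (mem_N_iff hc ht.1).2 (hS ((mem_normalizer_iff.1 hg t).1 hSt))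
    exact mem_centralizer_iff.2 fun a ha => comm_of_mem hc ht.1 (hS ha) (hle hgN)
  have hcomp := MonoidHom.ker_transferSylow_isComplement' S hP
  rcases IsSimpleGroup.eq_bot_or_eq_top_of_normal (MonoidHom.transferSylow S hP).ker inferInstance
    with e | e
  · rw [e, isComplement'_bot_left] at hcomp
    exact C_ne_top hn hc ht.1 (top_le_iff.1 (hcomp ▸ hS))
  · rw [e, isComplement'_top_left] at hcomp
    rw [hcomp] at hSt
    exact ht.1 (mem_bot.1 hSt)

/-- The action on the cosets of the normaliser of an involution centraliser. -/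
structure Pts (G : Type u) [Group G] (Ω : Type v) [MulAction G Ω] : Prop where
  trans : IsPretransitive G Ω
  exists_inv : ∀ x : Ω, ∃ s : G, Invn s ∧ stabilizer G x = N s
  inj : ∀ x y : Ω, stabilizer G x = stabilizer G y → x = y

section Counting

variable {Ω : Type v} [MulAction G Ω] [Finite Ω] [IsSimpleGroup G]
variable (hn : ¬ IsMulCommutative G) (hc : CT G) (P : Pts G Ω)
include hn hc P

theorem meet_trivial {x y : Ω} (hxy : x ≠ y) {s : G} (hs : Invn s) (hx : stabilizer G x = N s)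
    {u : G} (hu : Invn u) (hux : u • x = y) {a : G} (ha : a ∈ C s) (hay : a • y = y) : a = 1 := by
  have huy : u • y = x := by rw [← hux, ← mul_smul, hu.2, one_smul]
  set b := u * a * u with hb
  have hbx : b ∈ N s := by
    rw [← hx, mem_stabilizer_iff, hb, mul_smul, mul_smul, hux, hay, huy]
  have huN : u ∉ N s := fun h => hxy (by rw [← hux]; exact (mem_stabilizer_iff.1 (hx ▸ h)).symm)
  have key : ∀ c ∈ C s, c ≠ 1 → u * c * u ∉ C s := fun c hcs hc1 h => by
    refine huN ?_
    rw [N, ← C_eq hc hs.1 hc1 hcs]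
    refine (mem_N_iff hc hc1).2 ?_
    rw [hu.inv_eq, C_eq hc hs.1 hc1 hcs]
    exact h
  set c := a * (b * a⁻¹ * b⁻¹) with hcdef
  have hcs : c ∈ C s := mul_mem ha (conj_mem_of_mem_N hbx (inv_mem ha))
  have hucu : u * c * u = c⁻¹ := by
    rw [hcdef, hb, mul_inv_rev, mul_inv_rev, hu.inv_eq]
    simp only [mul_inv_rev, inv_inv, hu.inv_eq, mul_assoc]
    simp only [hu.2, reduceCtorEq, mul_one, ← mul_assoc u u, one_mul]
  have hc1 : c = 1 := by
    by_contra h
    exact key c hcs h (hucu ▸ inv_mem hcs)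
  by_contra ha1
  have hba : b ∈ C a := mem_C.2 (by
    have := congrArg (fun e => e * (b * a)) hc1
    simp only [hcdef, one_mul] at this
    rw [show a * (b * a⁻¹ * b⁻¹) * (b * a) = a * b by group] at this
    exact this.symm)
  rw [C_eq hc hs.1 ha1 ha] at hba
  exact key a ha ha1 hba

theorem card_invn_eq {x : Ω} {s : G} (hs : Invn s) (hx : stabilizer G x = N s) :
    Nat.card {w : G // Invn w} = (C s).relIndex (N s) * Nat.card Ω := by
  haveI := P.trans
  rw [card_invn hn hc hs, ← relIndex_mul_index (le_normalizer : C s ≤ N s)]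
  congr 1
  show (N s).index = _
  rw [← hx, index_stabilizer_of_transitive]

/-- The injection of a two-point stabiliser into the stabiliser modulo its kernel. -/
def toQuot {x : Ω} {s : G} (hx : stabilizer G x = N s) (y : Ω)
    (d : (stabilizer G x ⊓ stabilizer G y : Subgroup G)) : N s ⧸ (C s).subgroupOf (N s) :=
  QuotientGroup.mk ⟨(d : G), hx ▸ d.2.1⟩

theorem toQuot_injective {x y : Ω} (hxy : x ≠ y) {s : G} (hs : Invn s)
    (hx : stabilizer G x = N s) {u : G} (hu : Invn u) (hux : u • x = y) :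
    Function.Injective (toQuot hx y) := by
  intro d d' h
  rw [toQuot, toQuot, QuotientGroup.eq, mem_subgroupOf] at h
  push_cast at h
  have h1 := meet_trivial hn hc P hxy hs hx hu hux h
    (mem_stabilizer_iff.1 (mul_mem (inv_mem d.2.2) d'.2.2))
  exact Subtype.ext (inv_mul_eq_one.1 h1)

/-- The injection of the involutions of a coset into a two-point stabiliser. -/
def toTwo {x y : Ω} {u : G} (hu : Invn u) (hux : u • x = y) (w : {w : G // Invn w ∧ w • x = y}) :
    (stabilizer G x ⊓ stabilizer G y : Subgroup G) :=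
  ⟨u * w, by
    have huy : u • y = x := by rw [← hux, ← mul_smul, hu.2, one_smul]
    refine mem_inf.2 ⟨?_, ?_⟩ <;> rw [mem_stabilizer_iff, mul_smul]
    · rw [w.2.2, huy]
    · rw [show (w : G) • y = x from (congrArg ((w : G) • ·) w.2.2).symm.trans
        (by show (w : G) • ((w : G) • x) = x; rw [← mul_smul, w.2.1.2, one_smul]), hux]⟩

theorem toTwo_injective {x y : Ω} {u : G} (hu : Invn u) (hux : u • x = y) :
    Function.Injective (toTwo hu hux) := fun _ _ h =>
  Subtype.ext (mul_left_cancel (congrArg Subtype.val h))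

theorem card_swap_le {x y : Ω} (hxy : x ≠ y) {s : G} (hs : Invn s) (hx : stabilizer G x = N s) :
    Nat.card {w : G // Invn w ∧ w • x = y} ≤ (C s).relIndex (N s) := by
  rcases isEmpty_or_nonempty {w : G // Invn w ∧ w • x = y} with h | ⟨⟨u, hu, hux⟩⟩
  · simp
  calc Nat.card {w : G // Invn w ∧ w • x = y}
      ≤ Nat.card (stabilizer G x ⊓ stabilizer G y : Subgroup G) :=
        Nat.card_le_card_of_injective _ (toTwo_injective hn hc P hu hux)
    _ ≤ _ := Nat.card_le_card_of_injective _ (toQuot_injective hn hc P hxy hs hx hu hux)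

theorem card_swap {x : Ω} {s : G} (hs : Invn s) (hx : stabilizer G x = N s) {y : Ω} (hxy : x ≠ y) :
    Nat.card {w : G // Invn w ∧ w • x = y} = (C s).relIndex (N s) := by
  classical
  haveI : Fintype Ω := Fintype.ofFinite Ω
  have hsum : Nat.card {w : G // Invn w} = ∑ z : Ω, Nat.card {w : G // Invn w ∧ w • x = z} := by
    rw [← Nat.card_congr (Equiv.sigmaFiberEquiv fun w : {w : G // Invn w} => (w : G) • x),
      Nat.card_sigma]
    exact Finset.sum_congr rfl fun z _ => Nat.card_congr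
      (Equiv.subtypeSubtypeEquivSubtypeInter Invn fun w : G => w • x = z)
  have hfix : Nat.card {w : G // Invn w ∧ w • x = x} = (C s).relIndex (N s) := by
    rw [← card_J hn hc hs]
    refine Nat.card_congr (Equiv.subtypeEquivRight fun w => ?_)
    refine and_congr_right fun hw => ⟨fun h => ?_, fun h => ?_⟩
    · exact mem_C_of_sq hc hs (hx ▸ mem_stabilizer_iff.2 h) hw.2
    · exact mem_stabilizer_iff.1 (hx.symm ▸ le_normalizer h)
  rw [card_invn_eq hn hc P hs hx, ← Finset.add_sum_erase _ _ (Finset.mem_univ x), hfix,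
    Nat.card_eq_fintype_card] at hsum
  have hle : ∀ z ∈ Finset.univ.erase x,
      Nat.card {w : G // Invn w ∧ w • x = z} ≤ (C s).relIndex (N s) := fun z hz =>
    card_swap_le hn hc P (Finset.mem_erase.1 hz).1.symm hs hx
  refine (Finset.sum_eq_sum_iff_of_le hle).1 ?_ y (Finset.mem_erase.2 ⟨hxy.symm, Finset.mem_univ y⟩)
  rw [Finset.sum_const, Finset.card_erase_of_mem (Finset.mem_univ x), Finset.card_univ, smul_eq_mul]
  have : 0 < Fintype.card Ω := Fintype.card_pos_iff.2 ⟨x⟩
  obtain ⟨m, hm⟩ : ∃ m, Fintype.card Ω = m + 1 := ⟨Fintype.card Ω - 1, by omega⟩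
  rw [hm, mul_add, mul_one] at hsum
  rw [hm, Nat.add_sub_cancel, mul_comm m]
  omega

theorem relIndex_eq {x y : Ω} {s r : G} (hs : Invn s) (hx : stabilizer G x = N s) (hr : Invn r)
    (hy : stabilizer G y = N r) : (C s).relIndex (N s) = (C r).relIndex (N r) := by
  haveI : Nonempty Ω := ⟨x⟩
  exact Nat.eq_of_mul_eq_mul_right Nat.card_pos
    ((card_invn_eq hn hc P hs hx).symm.trans (card_invn_eq hn hc P hr hy))

/-- Everything about one pair of points. -/
theorem pair {x y : Ω} (hxy : x ≠ y) {s : G} (hs : Invn s) (hx : stabilizer G x = N s) :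
    ∃ u : G, Invn u ∧ u • x = y ∧ (∀ a ∈ C s, a • y = y → a = 1) ∧
      Nat.card (stabilizer G x ⊓ stabilizer G y : Subgroup G) = (C s).relIndex (N s) ∧
      (∀ d ∈ stabilizer G x ⊓ stabilizer G y, u * d * u = d⁻¹) ∧
      Function.Surjective (toQuot hx y) := by
  have hU := card_swap hn hc P hs hx hxy
  have h2 := two_le_relIndex hn hc hs
  obtain ⟨⟨u, hu, hux⟩⟩ : Nonempty {w : G // Invn w ∧ w • x = y} :=
    (Nat.card_pos_iff.1 (by omega)).1
  have hinj := toTwo_injective hn hc P hu hux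
  have hinj' := toQuot_injective hn hc P hxy hs hx hu hux
  have hle := Nat.card_le_card_of_injective _ hinj
  have hle' := Nat.card_le_card_of_injective _ hinj'
  rw [hU] at hle
  change Nat.card (stabilizer G x ⊓ stabilizer G y : Subgroup G) ≤ (C s).relIndex (N s) at hle'
  have hcard := le_antisymm hle' hle
  refine ⟨u, hu, hux, fun a ha => meet_trivial hn hc P hxy hs hx hu hux ha, hcard, ?_, ?_⟩
  · intro d hd
    obtain ⟨w', hdw⟩ := (hinj.bijective_of_nat_card_le (by rw [hU, hcard])).2 ⟨d, hd⟩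
    obtain ⟨w, hw, hwx⟩ := w'
    have hdw' : u * w = d := congrArg Subtype.val hdw
    rw [← hdw', mul_inv_rev, hw.inv_eq, hu.inv_eq, ← mul_assoc, hu.2, one_mul]
  · exact (hinj'.bijective_of_nat_card_le (by rw [hcard]; exact le_rfl)).2

theorem two_comm {x y : Ω} (hxy : x ≠ y) : ∀ d ∈ stabilizer G x ⊓ stabilizer G y,
    ∀ e ∈ stabilizer G x ⊓ stabilizer G y, d * e = e * d := by
  obtain ⟨s, hs, hx⟩ := P.exists_inv x
  obtain ⟨u, hu, -, -, -, hinv, -⟩ := pair hn hc P hxy hs hx
  intro d hd e he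
  refine inv_injective ?_
  rw [← hinv _ (mul_mem hd he), ← hinv _ (mul_mem he hd)]
  calc u * (d * e) * u = (u * d * u) * (u * e * u) := by
        rw [show u * d * u * (u * e * u) = u * d * (u * u) * e * u by group, hu.2]; group
    _ = (e * d)⁻¹ := by rw [hinv d hd, hinv e he]; group
    _ = u * (e * d) * u := (hinv _ (mul_mem he hd)).symm

theorem sq_ne_one {x y : Ω} (hxy : x ≠ y) {d : G} (hd : d ∈ stabilizer G x ⊓ stabilizer G y)
    (hd1 : d ≠ 1) : d * d ≠ 1 := fun h => by
  obtain ⟨s, hs, hx⟩ := P.exists_inv x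
  obtain ⟨u, -, -, hm, -⟩ := pair hn hc P hxy hs hx
  exact hd1 (hm d (mem_C_of_sq hc hs (hx ▸ hd.1) h) hd.2)

theorem centralizer_inf {x y : Ω} (hxy : x ≠ y) {d : G}
    (hd : d ∈ stabilizer G x ⊓ stabilizer G y) (hd1 : d ≠ 1) :
    C d ⊓ stabilizer G x = stabilizer G x ⊓ stabilizer G y := by
  refine le_antisymm (fun z hz => ?_) fun z hz => ⟨mem_C.2 (two_comm hn hc P hxy z hz d hd), hz.1⟩
  obtain ⟨s, hs, hx⟩ := P.exists_inv x
  obtain ⟨u, -, -, hm, -, -, hsurj⟩ := pair hn hc P hxy hs hx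
  obtain ⟨e, he⟩ := hsurj (QuotientGroup.mk ⟨z, hx ▸ hz.2⟩)
  rw [toQuot, QuotientGroup.eq, mem_subgroupOf] at he
  push_cast at he
  set a := (e : G)⁻¹ * z with ha
  have hze : z = e * a := by rw [ha, mul_inv_cancel_left]
  have had : a ∈ C d := mul_mem (inv_mem (mem_C.2 (two_comm hn hc P hxy e e.2 d hd))) hz.1
  have ha1 : a = 1 := by
    by_contra h
    refine hd1 (hm d ?_ hd.2)
    rw [← C_eq hc hs.1 h he]
    exact mem_C.2 (mem_C.1 had).symm
  rw [hze, ha1, mul_one]
  exact e.2

theorem no_third {x y z : Ω} (hxy : x ≠ y) (hzx : z ≠ x) (hzy : z ≠ y) {d : G} (hdx : d • x = x)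
    (hdy : d • y = y) (hdz : d • z = z) : d = 1 := by
  classical
  by_contra hd1
  obtain ⟨s, hs, hx⟩ := P.exists_inv x
  set k := (C s).relIndex (N s) with hk
  have hk2 : 2 ≤ k := two_le_relIndex hn hc hs
  have htwo : ∀ p q : Ω, p ≠ q →
      Nat.card (stabilizer G p ⊓ stabilizer G q : Subgroup G) = k := fun p q hpq => by
    obtain ⟨r, hr, hp⟩ := P.exists_inv p
    obtain ⟨u, -, -, -, hcard, -⟩ := pair hn hc P hpq hr hp
    rw [hcard, hk, relIndex_eq hn hc P hr hp hs hx]
  set F : Set Ω := {p | d • p = p} with hF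
  set B := C d with hB
  have hstabB : ∀ p ∈ F, Nat.card (B ⊓ stabilizer G p : Subgroup G) = k := fun p hp => by
    obtain ⟨q, hq, hpq⟩ : ∃ q ∈ F, p ≠ q := by
      by_cases h : p = x
      · exact ⟨y, hdy, h ▸ hxy⟩
      · exact ⟨x, hdx, h⟩
    rw [centralizer_inf hn hc P hpq (mem_inf.2 ⟨hp, hq⟩) hd1, htwo p q hpq]
  obtain ⟨u, hu, hux, -, -, hinv, -⟩ := pair hn hc P hxy hs hx
  have hud : u * d * u = d⁻¹ := hinv d (mem_inf.2 ⟨hdx, hdy⟩)
  have hd2 := sq_ne_one hn hc P hxy (mem_inf.2 ⟨hdx, hdy⟩) hd1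
  have huB : u ∉ B := fun h => hd2 (by
    have h' : u * d * u = d := by rw [mem_C.1 h, mul_assoc, hu.2, mul_one]
    rw [h'] at hud
    exact mul_eq_one_iff_eq_inv.2 hud)
  have hBinv : ∀ b ∈ B, u * b * u = b⁻¹ := fun b hb => by
    have hub : u * b * u ∈ B := by
      rw [mem_C]
      have hb' := mem_C.1 (inv_mem (mem_C.2 (mem_C.1 hb).symm : d ∈ C b))
      have hud' : d * u = u * d⁻¹ := by
        rw [← hud, ← mul_assoc, ← mul_assoc, hu.2, one_mul]
      have hud'' : u * d = d⁻¹ * u := by rw [← hud, mul_assoc, hu.2, mul_one]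
      calc u * b * u * d = u * (b * d⁻¹) * u := by rw [mul_assoc, hud'']; group
        _ = u * d⁻¹ * b * u := by rw [← hb']; group
        _ = d * (u * b * u) := by rw [← hud']; group
    have hfix : u * (b * (u * b * u)) * u = b * (u * b * u) := by
      rw [show u * (b * (u * b * u)) * u = (u * b * u) * b * (u * u) by group, hu.2, mul_one]
      exact comm_of_mem hc hd1 hub hb
    have h1 : b * (u * b * u) = 1 := by
      by_contra h
      refine huB ?_
      rw [hB, ← C_eq hc hd1 h (mul_mem hb hub)]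
      refine mem_C.2 ?_
      calc u * (b * (u * b * u)) = u * (b * (u * b * u)) * u * u := by
            rw [mul_assoc _ u u, hu.2, mul_one]
        _ = b * (u * b * u) * u := by rw [hfix]
    exact (inv_eq_of_mul_eq_one_right h1).symm
  -- the involutions inverting `d`
  set W := {w : G // Invn w ∧ w * d * w = d⁻¹}
  have hWB : Nat.card W = Nat.card B := by
    refine Nat.card_congr (Equiv.ofBijective (fun w : W => (⟨u * w, mem_C.2 ?_⟩ : B)) ⟨?_, ?_⟩)
    · obtain ⟨w, hw, hwd⟩ := w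
      show u * w * d = d * (u * w)
      calc u * w * d = u * (w * d * w) * w := by
            rw [show u * (w * d * w) * w = u * (w * d) * (w * w) by group, hw.2, mul_one, mul_assoc]
        _ = u * d⁻¹ * w := by rw [hwd]
        _ = u * (u * d * u) * w := by rw [hud]
        _ = d * (u * w) := by rw [show u * (u * d * u) * w = (u * u) * d * (u * w) by group, hu.2, one_mul]
    · exact fun a b h => Subtype.ext (mul_left_cancel (congrArg Subtype.val h))
    · rintro ⟨b, hb⟩
      have hbub : b * u * b = u := by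
        calc b * u * b = b * (u * b * u) * u := by
              rw [show b * (u * b * u) * u = b * u * b * (u * u) by group, hu.2, mul_one]
          _ = u := by rw [hBinv b hb, mul_inv_cancel, one_mul]
      refine ⟨⟨u * b, ⟨fun e => huB ?_, ?_⟩, ?_⟩, Subtype.ext ?_⟩
      · rw [eq_inv_of_mul_eq_one_left e]; exact inv_mem hb
      · rw [show u * b * (u * b) = u * (b * u * b) by group, hbub, hu.2]
      · rw [show u * b * d * (u * b) = u * ((b * d) * u * b) by group, mem_C.1 hb,
          show u * (d * b * u * b) = u * d * (b * u * b) by group, hbub, hud]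
      · show u * (u * b) = b
        rw [← mul_assoc, hu.2, one_mul]
  have hWF : Nat.card W = k * (F \ {x}).ncard := by
    have hmaps : ∀ w : W, (w : G) • x ∈ F \ {x} := by
      rintro ⟨w, hw, hwd⟩
      have hdw : d * w = w * d⁻¹ := by
        rw [← hwd, ← mul_assoc, ← mul_assoc, hw.2, one_mul]
      refine ⟨?_, fun h => hd2 ?_⟩
      · show d • w • x = w • x
        rw [← mul_smul, hdw, mul_smul, inv_smul_eq_iff.2 hdx.symm]
      · obtain ⟨r, -, -, hm, -⟩ := pair hn hc P hxy hs hx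
        have hwC : w ∈ C s := mem_C_of_sq hc hs (hx ▸ mem_stabilizer_iff.2 h) hw.2
        have h1 : w * (d * w * d⁻¹) = (d * d)⁻¹ := by
          rw [show w * (d * w * d⁻¹) = w * d * w * d⁻¹ by group, hwd]; group
        have h2 := mul_mem hwC (conj_mem_of_mem_N (hx ▸ mem_stabilizer_iff.2 hdx) hwC)
        rw [h1] at h2
        exact hm _ (inv_inv (d * d) ▸ inv_mem h2) (by rw [mul_smul, hdy, hdy])
    have hfib : ∀ p : ↥(F \ {x}),
        Nat.card {w : W // (⟨_, hmaps w⟩ : ↥(F \ {x})) = p} = k := fun ⟨p, hp, hpx⟩ => by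
      have hxp : x ≠ p := fun e => hpx e.symm
      rw [hk, ← card_swap hn hc P hs hx hxp]
      refine Nat.card_congr (Equiv.ofBijective
        (fun w => (⟨(w.1 : G), w.1.2.1, congrArg Subtype.val w.2⟩ :
          {w : G // Invn w ∧ w • x = p})) ⟨?_, ?_⟩)
      · exact fun a b h => Subtype.ext (Subtype.ext (congrArg Subtype.val h :))
      · rintro ⟨w, hw, hwp⟩
        obtain ⟨v, hv, hvp, -, -, hvinv, -⟩ := pair hn hc P hxp hs hx
        have hwd : w * d * w = d⁻¹ := by
          have hmem : v * w ∈ stabilizer G x ⊓ stabilizer G p :=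
            (toTwo hv hvp ⟨w, hw, hwp⟩).2
          have hcd := two_comm hn hc P hxp _ hmem d (mem_inf.2 ⟨hdx, hp⟩)
          have hvd := hvinv d (mem_inf.2 ⟨hdx, hp⟩)
          calc w * d * w = v * ((v * w) * d) * w := by
                rw [show v * (v * w * d) * w = (v * v) * w * d * w by group, hv.2, one_mul]
            _ = v * (d * (v * w)) * w := by rw [hcd]
            _ = d⁻¹ := by
                rw [show v * (d * (v * w)) * w = v * d * v * (w * w) by group, hw.2, mul_one, hvd]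
        exact ⟨⟨⟨w, hw, hwd⟩, Subtype.ext hwp⟩, rfl⟩
    rw [← Nat.card_congr (Equiv.sigmaFiberEquiv fun w : W => (⟨_, hmaps w⟩ : ↥(F \ {x})))]
    haveI : Fintype ↥(F \ {x}) := Fintype.ofFinite _
    rw [Nat.card_sigma, Finset.sum_congr rfl (fun p _ => hfib p), Finset.sum_const, Finset.card_univ,
      ← Nat.card_eq_fintype_card, Nat.card_coe_set_eq, smul_eq_mul, mul_comm]
  -- orbits of `B`
  have horb : ∀ p ∈ F, (orbit B p).ncard * k = Nat.card B := fun p hp => by
    rw [← Nat.card_coe_set_eq, ← hstabB p hp, ← (stabilizer B p).card_mul_index, index_stabilizer,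
      ← Nat.card_coe_set_eq, mul_comm]
    congr 1
    refine Nat.card_congr ⟨fun g => ⟨⟨g, g.2.1⟩, mem_stabilizer_iff.2 (mem_stabilizer_iff.1 g.2.2)⟩,
      fun g => ⟨g.1, g.1.2, mem_stabilizer_iff.2 (mem_stabilizer_iff.1 g.2 : (g.1 : G) • p = p)⟩,
      fun _ => rfl, fun _ => rfl⟩
  have hsub : ∀ p ∈ F, orbit B p ⊆ F := by
    rintro p hp _ ⟨⟨b, hb⟩, rfl⟩
    show d • b • p = b • p
    rw [← mul_smul, ← mem_C.1 hb, mul_smul, show d • p = p from hp]
  set m := (F \ {x}).ncard with hm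
  have hmorb : ∀ p ∈ F, (orbit B p).ncard = m := fun p hp => by
    refine Nat.eq_of_mul_eq_mul_right (by omega : 0 < k) ?_
    rw [horb p hp, ← hWB, hWF, mul_comm]
  have hFcard : F.ncard = m + 1 := (Set.ncard_diff_singleton_add_one (show x ∈ F from hdx) (Set.toFinite _)).symm
  obtain ⟨q, hq⟩ : ∃ q, F \ orbit B x = {q} := by
    refine Set.ncard_eq_one.1 ?_
    rw [Set.ncard_sdiff (hsub x hdx) (Set.toFinite _), hmorb x hdx, hFcard]
    omega
  have hqF : q ∈ F ∧ q ∉ orbit B x := by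
    have : q ∈ F \ orbit B x := by rw [hq]; rfl
    exact this
  have hm1 : m ≤ 1 := by
    rw [← hmorb q hqF.1, ← Set.ncard_singleton q, ← hq]
    refine Set.ncard_le_ncard (fun p hp => ⟨hsub q hqF.1 hp, fun hpx => hqF.2 ?_⟩) (Set.toFinite _)
    rw [← orbit_eq_iff.2 hpx, orbit_eq_iff.2 hp]
    exact mem_orbit_self q
  have h2 : ({y, z} : Set Ω) ⊆ F \ {x} := by
    rintro p (rfl | rfl)
    · exact ⟨hdy, hxy.symm⟩
    · exact ⟨hdz, hzx⟩
  have := Set.ncard_le_ncard h2 (Set.toFinite _)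
  rw [Set.ncard_pair hzy.symm] at this
  omega

theorem regular {x : Ω} {s : G} (hs : Invn s) (hx : stabilizer G x = N s) :
    ∀ y z : Ω, y ≠ x → z ≠ x → ∃! a : C s, (a : G) • y = z := by
  classical
  haveI : Fintype Ω := Fintype.ofFinite Ω
  intro y z hy hz
  have hmem : ∀ a : C s, (a : G) • y ≠ x := fun a h => hy (by
    have h1 : (a : G) • x = x := mem_stabilizer_iff.1 (hx.symm ▸ le_normalizer a.2)
    rw [← h1] at h
    exact smul_left_cancel _ h)
  let f : C s → {w : Ω // w ≠ x} := fun a => ⟨(a : G) • y, hmem a⟩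
  have hf : Function.Injective f := fun a b h => by
    obtain ⟨u, -, -, hm, -⟩ := pair hn hc P hy.symm hs hx
    have h' : (a : G) • y = (b : G) • y := congrArg Subtype.val h
    have := hm ((a : G)⁻¹ * b) (mul_mem (inv_mem a.2) b.2)
      (by rw [mul_smul, ← h', inv_smul_smul])
    exact Subtype.ext (inv_mul_eq_one.1 this)
  have hcard : Nat.card {w : Ω // w ≠ x} ≤ Nat.card (C s) := by
    set k := (C s).relIndex (N s) with hk
    have hk2 : 2 ≤ k := two_le_relIndex hn hc hs
    let T := Σ w : {w : Ω // w ≠ x},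
      {d : (stabilizer G x ⊓ stabilizer G w.1 : Subgroup G) // (d : G) ≠ 1}
    have hT : Nat.card T = Nat.card {w : Ω // w ≠ x} * (k - 1) := by
      rw [Nat.card_sigma, Finset.sum_congr rfl (fun w _ => ?_), Finset.sum_const, Finset.card_univ,
        ← Nat.card_eq_fintype_card, smul_eq_mul]
      obtain ⟨u, -, -, -, hc', -⟩ := pair hn hc P (Ne.symm w.2) hs hx
      haveI : Fintype (stabilizer G x ⊓ stabilizer G w.1 : Subgroup G) := Fintype.ofFinite _
      rw [hk, ← hc', Nat.card_eq_fintype_card, Nat.card_eq_fintype_card, Fintype.card_subtype_compl]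
      congr 1
      rw [Fintype.card_eq_one_iff]
      exact ⟨⟨1, rfl⟩, fun d => Subtype.ext (Subtype.ext d.2)⟩
    let g : T → {n : N s // n ∉ (C s).subgroupOf (N s)} := fun p =>
      ⟨⟨(p.2.1 : G), hx ▸ p.2.1.2.1⟩, fun h => p.2.2 (by
        obtain ⟨u, -, -, hm, -⟩ := pair hn hc P (Ne.symm p.1.2) hs hx
        exact hm _ h p.2.1.2.2)⟩
    have hg : Function.Injective g := by
      rintro ⟨⟨w, hw⟩, ⟨⟨d, hd⟩, hd1⟩⟩ ⟨⟨w', hw'⟩, ⟨⟨d', hd'⟩, hd1'⟩⟩ h
      have hdd : d = d' := congrArg (fun n => ((n.1 : N s) : G)) h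
      subst hdd
      by_cases hww : w = w'
      · subst hww; rfl
      · exact absurd (no_third hn hc P (Ne.symm hw) hw' (Ne.symm hww) hd.1 hd.2 hd'.2) hd1
    have hle := Nat.card_le_card_of_injective g hg
    haveI : Fintype (N s) := Fintype.ofFinite _
    rw [hT, Nat.card_eq_fintype_card (α := {n : N s // n ∉ (C s).subgroupOf (N s)}),
      Fintype.card_subtype_compl, ← Nat.card_eq_fintype_card, ← Nat.card_eq_fintype_card,
      ← ((C s).subgroupOf (N s)).card_mul_index,
      Nat.card_congr (subgroupOfEquivOfLe (le_normalizer : C s ≤ N s)).toEquiv] at hle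
    change Nat.card {w : Ω // w ≠ x} * (k - 1) ≤ Nat.card (C s) * k - Nat.card (C s) at hle
    rw [← Nat.mul_sub_one] at hle
    exact Nat.le_of_mul_le_mul_right hle (by omega)
  obtain ⟨a, ha⟩ := (hf.bijective_of_nat_card_le hcard).2 ⟨z, hz⟩
  exact ⟨a, congrArg Subtype.val ha, fun b hb =>
    hf (Subtype.ext (hb.trans (congrArg Subtype.val ha).symm))⟩

end Counting

/-- The points. -/
theorem pts [IsSimpleGroup G] (hc : CT G) {t : G} (ht : Invn t) : Pts G (G ⧸ N t) := by
  have key : ∀ g : G, stabilizer G (g : G ⧸ N t) = N (g * t * g⁻¹) := fun g => by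
    ext h
    rw [mem_stabilizer_iff, mem_N_iff hc (ht.conj g).1, ← conj_mem_C g⁻¹]
    rw [show g⁻¹ * (g * t * g⁻¹) * g⁻¹⁻¹ = t by group]
    rw [show g⁻¹ * (h * (g * t * g⁻¹) * h⁻¹) * g⁻¹⁻¹ =
      (g⁻¹ * h * g) * t * (g⁻¹ * h * g)⁻¹ by group, ← mem_N_iff hc ht.1]
    rw [MulAction.Quotient.smul_mk, QuotientGroup.eq, ← inv_mem_iff,
      show ((h • g)⁻¹ * g)⁻¹ = g⁻¹ * h * g by rw [smul_eq_mul]; group]
  refine ⟨inferInstance, fun x => ?_, fun x y h => ?_⟩
  · induction x using QuotientGroup.induction_on with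
    | _ g => exact ⟨_, ht.conj g, key g⟩
  · induction x using QuotientGroup.induction_on with
    | _ g =>
      induction y using QuotientGroup.induction_on with
      | _ g' =>
        rw [key, key] at h
        have h1 : g' * t * g'⁻¹ ∈ C (g * t * g⁻¹) :=
          mem_C_of_sq hc (ht.conj g) (h.symm ▸ le_normalizer (self_mem_C _)) (ht.conj g').2
        rw [← conj_mem_C g⁻¹] at h1
        rw [show g⁻¹ * (g * t * g⁻¹) * g⁻¹⁻¹ = t by group,
          show g⁻¹ * (g' * t * g'⁻¹) * g⁻¹⁻¹ = (g⁻¹ * g') * t * (g⁻¹ * g')⁻¹ by group,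
          ← mem_N_iff hc ht.1] at h1
        exact QuotientGroup.eq.2 h1

/-- The classification. -/
theorem classification [IsSimpleGroup G] (hn : ¬ IsMulCommutative G) (hc : CT G) :
    ∃ f : ℕ, 2 ≤ f ∧ Nonempty
      (G ≃* Matrix.ProjectiveSpecialLinearGroup (Fin 2) (GaloisField 2 f)) := by
  classical
  obtain ⟨t, ht⟩ := even_card hn hc
  set Ω := G ⧸ N t
  have P := pts hc ht
  haveI : Fintype Ω := Fintype.ofFinite Ω
  haveI := P.trans
  set x : Ω := ((1 : G) : G ⧸ N t) with hxdef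
  obtain ⟨s, hs, hx⟩ := P.exists_inv x
  obtain ⟨y, hxy⟩ : ∃ y : Ω, x ≠ y := by
    by_contra hcon
    push Not at hcon
    refine N_ne_top hn hc ht.1 ((eq_top_iff' _).2 fun g => ?_)
    have := QuotientGroup.eq.1 (hcon (g : G ⧸ N t))
    simpa using this
  have hreg := regular hn hc P hs hx
  have htrans : IsMultiplyPretransitive G Ω 2 := by
    refine is_two_pretransitive_iff.2 ?_
    intro a b c d hab hcd
    obtain ⟨g, hg⟩ := exists_smul_eq G a c
    obtain ⟨r, hr, hc'⟩ := P.exists_inv c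
    have hgb : g • b ≠ c := fun h => hab (smul_left_cancel g (hg.trans h.symm))
    obtain ⟨⟨v, hv⟩, hvd, -⟩ := regular hn hc P hr hc' (g • b) d hgb hcd.symm
    refine ⟨v * g, ?_, ?_⟩
    · rw [mul_smul, hg]
      exact mem_stabilizer_iff.1 (hc'.symm ▸ le_normalizer hv)
    · rw [mul_smul]; exact hvd
  have hfaith : FaithfulSMul G Ω := ⟨fun {g g'} h => by
    have hker : g'⁻¹ * g ∈ (MulAction.toPermHom G Ω).ker :=
      Equiv.ext fun p => by
        show (g'⁻¹ * g) • p = p
        rw [mul_smul, h p, inv_smul_smul]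
    rcases IsSimpleGroup.eq_bot_or_eq_top_of_normal (MulAction.toPermHom G Ω).ker inferInstance
      with e | e
    · rw [e, mem_bot] at hker
      exact (inv_mul_eq_one.1 hker).symm
    · exfalso
      refine N_ne_top hn hc ht.1 ((eq_top_iff' _).2 fun g₀ => ?_)
      have h1 : (MulAction.toPermHom G Ω) g₀ = 1 := MonoidHom.mem_ker.1 (e ▸ mem_top g₀)
      have h2 : g₀ • x = x := Equiv.congr_fun h1 x
      rw [hxdef, MulAction.Quotient.smul_mk, QuotientGroup.eq, smul_eq_mul, mul_one, mul_one,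
        inv_mem_iff] at h2
      exact h2⟩
  have hZ : Cfsg.IsZassenhausGroup G Ω := by
    refine ⟨hfaith, htrans, fun g a b c hab hbc hac ha hb hc' => ?_, ?_, fun M hM hMt => ?_⟩
    · exact no_third hn hc P hab (Ne.symm hac) (Ne.symm hbc) ha hb hc'
    · obtain ⟨u, -, -, -, hcard, -⟩ := pair hn hc P hxy hs hx
      have := two_le_relIndex hn hc hs
      haveI : Nontrivial (stabilizer G x ⊓ stabilizer G y : Subgroup G) :=
        Finite.one_lt_card_iff_nontrivial.1 (by omega)
      obtain ⟨d, hd⟩ := exists_ne (1 : (stabilizer G x ⊓ stabilizer G y : Subgroup G))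
      exact ⟨d, fun h => hd (Subtype.ext h), x, y, hxy, d.2.1, d.2.2⟩
    · rcases IsSimpleGroup.eq_bot_or_eq_top_of_normal M hM with e | e
      · exfalso
        subst e
        obtain ⟨m, hm⟩ := hMt.exists_smul_eq x y
        obtain ⟨m, hm'⟩ := m
        rw [mem_bot] at hm'
        subst hm'
        exact hxy (by rw [← hm]; exact (one_smul G x).symm)
      · refine ⟨x, fun h => hs.1 ?_⟩
        have hsx : s ∈ stabilizer G x := by rw [hx]; exact le_normalizer (self_mem_C s)
        have h1 : (⟨s, e ▸ mem_top s⟩ : M) ∈ stabilizer M x :=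
          mem_stabilizer_iff.2 (mem_stabilizer_iff.1 hsx :)
        exact congrArg Subtype.val ((Subgroup.eq_bot_iff_forall _).1 h _ h1)
  have hle : C s ≤ stabilizer G x := hx.symm ▸ le_normalizer
  have hnorm : ∀ g ∈ stabilizer G x, ∀ a ∈ C s, g * a * g⁻¹ ∈ C s := fun g hg a ha =>
    conj_mem_of_mem_N (hx ▸ hg) ha
  have A : ZassAb.Ab x y (C s) :=
    ⟨hZ, hxy, hle, hnorm, fun a ha b hb => comm_of_mem hc hs.1 ha hb, hreg⟩
  obtain ⟨u, -, -, -, hcard, -⟩ := pair hn hc P hxy hs hx
  have h2 := two_le_relIndex hn hc hs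
  have hev : 2 ∣ Nat.card (C s) := by
    have h1 : orderOf s = 2 := orderOf_eq_prime (by rw [pow_two]; exact hs.2) hs.1
    rw [← h1]
    exact Subgroup.orderOf_dvd_natCard _ (self_mem_C s)
  have heq : Nat.card (Zass.two (G := G) x y) = Nat.card (C s) - 1 := by
    rcases A.dichotomy with h | ⟨h, -⟩
    · exact h
    · exfalso; have := Nat.card_pos (α := C s); omega
  obtain ⟨h3, hsh⟩ := A.sharply heq
  have D := ZassSuz.ker_of_reg hZ hxy hle hnorm hreg
  obtain ⟨p, f, hp, hf, hpf⟩ := (isPrimePow_nat_iff _).1 D.isPrimePow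
  have hp2 : p = 2 := by
    rw [← hpf] at hev
    exact ((Nat.prime_dvd_prime_iff_eq Nat.prime_two hp).1 (Nat.prime_two.dvd_of_dvd_pow hev)).symm
  subst hp2
  have hf2 : 2 ≤ f := by
    have h' : Nat.card (stabilizer G x ⊓ stabilizer G y : Subgroup G) = Nat.card (C s) - 1 := heq
    rw [hcard, ← hpf] at h'
    by_contra hlt
    have : f = 1 := by omega
    subst this
    omega
  have hcardΩ : Nat.card Ω = 2 ^ f + 1 := by rw [hpf, Nat.card_eq_fintype_card, A.card_H]
  obtain ⟨e1⟩ := SharpEven.equiv_pgl hf hcardΩ (SharpEven.sharp3_of_pretransitive h3 hsh)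
  haveI : Fintype (GaloisField 2 f) := Fintype.ofFinite _
  obtain ⟨e2⟩ := SharpEven.psl_equiv_pgl (F := GaloisField 2 f) (f := f)
    (by rw [← Nat.card_eq_fintype_card, GaloisField.card 2 f (by omega)])
  exact ⟨f, hf2, ⟨e1.trans e2.symm⟩⟩

end Cfsg.Agent.CASimple
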